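import Mathlib
import Cfsg.Agent.Lib.Chars.Completeness
import Cfsg.Agent.Lib.Chars.Ops
import Cfsg.Agent.Lib.Coherence.Virtual

/-!
# Averaging a character over a normal subgroup
-/

set_option autoImplicit false

namespace Cfsg.Agent.Lib.TIBound

open scoped ComplexConjugate
open Cfsg.Agent.Lib

variable {M : Type*} [Group M] [Fintype M] {K : Subgroup M} [hK : K.Normal]

/-- The average of a function over the translates by a subgroup. -/
noncomputable def avg (K : Subgroup M) [Fintype K] (φ : M → ℂ) : M → ℂ :=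
  fun g => (Nat.card K : ℂ)⁻¹ * ∑ k : K, φ (g * k)

variable [Fintype K]

/-- An irreducible character not trivial on a normal subgroup averages to zero over it. -/
theorem sum_translate_eq_zero (η : Cfsg.IrrCharacter M)
    (hη : ∃ k ∈ K, (η : M → ℂ) k ≠ (η : M → ℂ) 1) (g : M) :
    ∑ k : K, (η : M → ℂ) (g * k) = 0 := by
  obtain ⟨m, ρ, hρ, hηρ⟩ := η.2
  obtain ⟨k₀, hk₀, hne⟩ := hη
  have hcomm : ∀ h : M, (∑ k : K, ρ k) ∘ₗ ρ h = ρ h ∘ₗ ∑ k : K, ρ k := by
    intro h
    simp only [← Module.End.mul_eq_comp, Finset.sum_mul, Finset.mul_sum, ← map_mul]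
    refine Fintype.sum_equiv (MulAut.conjNormal h⁻¹ : MulAut K).toEquiv _ _ fun k => ?_
    congr 1
    simp [mul_assoc]
  obtain ⟨w, hw⟩ := Chars.exists_scalar_of_commute ρ _ hcomm
  have hfix : (∑ k : K, ρ k) * ρ k₀ = ∑ k : K, ρ k := by
    rw [Finset.sum_mul]
    exact Fintype.sum_equiv (Equiv.mulRight ⟨k₀, hk₀⟩) _ _ fun k => by simp
  have hw0 : w = 0 := by
    by_contra h0
    rw [hw, smul_mul_assoc, one_mul] at hfix
    have h1 : ρ k₀ = 1 := smul_right_injective _ h0 hfix
    refine hne ?_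
    simp only [← hηρ, Representation.character, h1, map_one]
  rw [← hηρ]
  simp only [Representation.character, map_mul]
  rw [← map_sum, ← Finset.mul_sum, hw, hw0, zero_smul, mul_zero, map_zero]

omit hK in
/-- Averaging is symmetric. -/
theorem sum_mul_avg (φ ψ : M → ℂ) :
    ∑ g : M, avg K φ g * ψ g = ∑ g : M, φ g * avg K ψ g := by
  simp only [avg, mul_assoc, Finset.sum_mul, mul_left_comm _ (Nat.card K : ℂ)⁻¹,
    ← Finset.mul_sum]
  congr 1
  simp only [Finset.mul_sum]
  rw [Finset.sum_comm, Finset.sum_comm (f := fun g (k : K) => φ g * ψ (g * k))]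
  refine Fintype.sum_equiv (Equiv.inv K) _ _ fun k => ?_
  refine Fintype.sum_equiv (Equiv.mulRight (k : M)) _ _ fun g => ?_
  simp

omit hK [Fintype M] in
/-- Averaging is idempotent. -/
theorem avg_avg (φ : M → ℂ) : avg K (avg K φ) = avg K φ := by
  funext g
  have h : ∀ k : K, avg K φ (g * k) = avg K φ g := fun k => by
    simp only [avg]
    congr 1
    exact Fintype.sum_equiv (Equiv.mulLeft k) _ _ fun l => by simp [mul_assoc]
  rw [avg, Finset.sum_congr rfl fun k _ => h k, Finset.sum_const, Finset.card_univ,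
    Fintype.card_eq_nat_card, nsmul_eq_mul,
    inv_mul_cancel_left₀ (Nat.cast_ne_zero.mpr Nat.card_pos.ne')]

omit hK [Fintype M] in
theorem conj_avg (φ : M → ℂ) (g : M) : conj (avg K φ g) = avg K (fun x => conj (φ x)) g := by
  simp [avg, map_sum]

/-- The part of a character orthogonal to the characters of the quotient has norm at least one. -/
theorem card_add_le {φ : M → ℂ} (hφ : Cfsg.IsCharacter M φ) (hne : ∃ k ∈ K, φ k ≠ φ 1) :
    (Nat.card M : ℝ) + ∑ g : M, Complex.normSq (avg K φ g) ≤ ∑ g : M, Complex.normSq (φ g) := by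
  classical
  obtain ⟨η, hη, hηne⟩ : ∃ η : Cfsg.IrrCharacter M, Cfsg.classInner φ (η : M → ℂ) ≠ 0 ∧
      ∃ k ∈ K, (η : M → ℂ) k ≠ (η : M → ℂ) 1 := by
    obtain ⟨k, hk, hkne⟩ := hne
    by_contra h
    push Not at h
    apply hkne
    have e := Chars.isCharacter_eq_sum_classInner hφ
    rw [congrFun e k, congrFun e 1, Finset.sum_apply, Finset.sum_apply]
    refine Finset.sum_congr rfl fun η _ => ?_
    by_cases h0 : Cfsg.classInner φ (η : M → ℂ) = 0
    · simp [h0]
    · simp only [Pi.smul_apply, smul_eq_mul, h η h0 k hk]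
  obtain ⟨a, ha⟩ := Chars.isCharacter_classInner_nat hφ (Chars.irr_isCharacter η)
  have ha1 : (1 : ℝ) ≤ a := by
    rw [Nat.one_le_cast, Nat.one_le_iff_ne_zero]
    intro h; exact hη (by rw [ha, h, Nat.cast_zero])
  have havg : avg K (fun x => conj ((η : M → ℂ) x)) = 0 := funext fun g => by
    rw [← conj_avg, avg, sum_translate_eq_zero η hηne g, mul_zero, map_zero]
    rfl
  have h1 : Cfsg.classInner (avg K φ) (η : M → ℂ) = 0 := by
    simp only [Cfsg.classInner]
    rw [sum_mul_avg, havg]
    simp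
  have h2 : Cfsg.classInner (avg K φ) φ = Cfsg.classInner (avg K φ) (avg K φ) := by
    simp only [Cfsg.classInner, conj_avg]
    rw [← sum_mul_avg (avg K φ), avg_avg]
  have h3 : Cfsg.classInner φ (avg K φ) = Cfsg.classInner (avg K φ) (avg K φ) := by
    rw [← Chars.conj_classInner, h2, Chars.conj_classInner]
  have h1' : Cfsg.classInner (η : M → ℂ) (avg K φ) = 0 := by
    rw [← Chars.conj_classInner, h1, map_zero]
  have ha' : Cfsg.classInner (η : M → ℂ) φ = a := by
    rw [← Chars.conj_classInner, ha, Complex.conj_natCast]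
  have hpos := Coherence.classInner_self_re_nonneg (φ - avg K φ - (a : ℂ) • (η : M → ℂ))
  simp only [Chars.classInner_sub_left, Chars.classInner_sub_right, Chars.classInner_smul_left,
    Chars.classInner_smul_right, h1, h1', h2, h3, ha, ha', Chars.classInner_irr_self,
    Complex.conj_natCast, sub_zero, sub_self, mul_one] at hpos
  have hself : ∀ f : M → ℂ, (Cfsg.classInner f f).re
      = (Nat.card M : ℝ)⁻¹ * ∑ g : M, Complex.normSq (f g) := by
    intro f
    have : Cfsg.classInner f f
        = (((Nat.card M : ℝ)⁻¹ * ∑ g : M, Complex.normSq (f g) : ℝ) : ℂ) := by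
      simp only [Cfsg.classInner, Complex.mul_conj]
      push_cast
      rfl
    rw [this, Complex.ofReal_re]
  have hM : (0 : ℝ) < Nat.card M := Nat.cast_pos.mpr Nat.card_pos
  have hle : 1 ≤ (Nat.card M : ℝ)⁻¹ * (∑ g : M, Complex.normSq (φ g))
      - (Nat.card M : ℝ)⁻¹ * ∑ g : M, Complex.normSq (avg K φ g) := by
    rw [← hself, ← hself]
    simp only [Complex.sub_re, Complex.mul_re, Complex.natCast_re, Complex.natCast_im,
      Complex.zero_re, Complex.zero_im, mul_zero, sub_zero] at hpos
    nlinarith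
  rw [← mul_sub, le_inv_mul_iff₀ hM, mul_one] at hle
  linarith

end Cfsg.Agent.Lib.TIBound
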